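import Mathlib
import Groth.Agent.Lib.Helper13.SemiLocal3
import Groth.Agent.Lib.Helper13.PbInv

set_option autoImplicit false
universe u
open CategoryTheory CategoryTheory.Limits AlgebraicGeometry Opposite TopologicalSpace

namespace Groth.Agent.Helper19.SemiLoc

/-- An invertible module on a scheme finite over the spectrum of a local ring is trivial. -/
theorem nonempty_iso_structureModule_of_isFinite {Z : Scheme.{u}} (R : Type u) [CommRing R]
    [IsLocalRing R] (g : Z ⟶ Spec (CommRingCat.of R)) [IsFinite g] (M : Z.Modules)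
    (hM : PicF.IsInvertible M) : Nonempty (M ≅ Coh.structureModule Z) := by
  classical
  haveI : IsAffine Z := isAffine_of_isAffineHom g
  let x₀ : Spec (CommRingCat.of R) := IsLocalRing.closedPoint R
  let E : Finset Z := (g.finite_preimage_singleton x₀).toFinset
  haveI : IsAffine (↑(⊤ : Z.Opens) : Scheme.{u}) := isAffineOpen_top Z
  obtain ⟨U, -, hEU, -, -, t, ht⟩ :=
    Groth.Agent.Helper13.SemiLocal.exists_affine_trivial_finite M hM ⊤ ⊤ E
      (fun _ _ => trivial) (fun _ _ => trivial)
  have hU : (⊤ : Z.Opens) ≤ U := by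
    intro z _
    -- closure of z meets the closed fibre
    have hcl : IsClosed (g '' closure {z}) := g.isClosedMap _ isClosed_closure
    have hx₀ : x₀ ∈ g '' closure {z} := by
      by_contra hne
      let V : (Spec (CommRingCat.of R)).Opens := ⟨(g '' closure {z})ᶜ, hcl.isOpen_compl⟩
      have hV : x₀ ∈ V := hne
      have : V = ⊤ := (IsLocalRing.closedPoint_mem_iff (R := R) (U := V)).1 hV
      have hz : g z ∈ V := by rw [this]; trivial
      exact hz ⟨z, subset_closure rfl, rfl⟩
    obtain ⟨z', hz', hgz'⟩ := hx₀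
    have hz'E : z' ∈ E := by
      simp only [E, Set.Finite.mem_toFinset]
      exact hgz'
    have hz'U : z' ∈ U := hEU z' hz'E
    have hsp : z ⤳ z' := specializes_iff_mem_closure.2 hz'
    exact hsp.mem_open U.2 hz'U
  let s : Γ(M, ⊤) := M.presheaf.map (homOfLE hU).op t
  have hs : ∀ y, Groth.Agent.Helper13.Inv.IsGen M s y trivial := by
    intro y
    exact (Groth.Agent.Helper13.Inv.isGen_res M (homOfLE hU) t y trivial).2 (ht y (hU trivial))
  haveI := Groth.Agent.Helper13.Inv.isIso_homOfSec M s hs
  exact ⟨(asIso (Groth.Agent.Helper13.LocFree.homOfSec M s)).symm⟩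

end Groth.Agent.Helper19.SemiLoc
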